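import Mathlib.LinearAlgebra.Dimension.Constructions
import Mathlib.LinearAlgebra.Dimension.Finite
import Mathlib.LinearAlgebra.FiniteDimensional.Lemmas
import Mathlib.LinearAlgebra.Dimension.OrzechProperty

/-!
# Rado's theorem for vectors and partition of a family into independent subfamilies
-/

universe u v w

open Module Submodule

namespace Rado27

variable {K : Type u} [Field K] {W : Type v} [AddCommGroup W] [Module K W] [FiniteDimensional K W]
  {E : Type w} [Fintype E] [DecidableEq E] [DecidableEq W]

/-- Rado's condition. -/
def Cond (K : Type u) [Field K] {W : Type v} [AddCommGroup W] [Module K W] [DecidableEq W] {E : Type w}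
    (A : E → Finset W) : Prop :=
  ∀ J : Finset E, J.card ≤ finrank K ↥(span K (↑(J.biUnion A) : Set W))

theorem exists_shrink {A : E → Finset W} (hA : Cond K A) {e : E} {x y : W} (hx : x ∈ A e) (hy : y ∈ A e)
    (hxy : x ≠ y) :
    Cond K (Function.update A e ((A e).erase x)) ∨ Cond K (Function.update A e ((A e).erase y)) := by
  by_contra hcon
  simp only [Cond, not_or, not_forall, not_le] at hcon
  obtain ⟨⟨J, hJ⟩, ⟨L, hL⟩⟩ := hcon
  have mem : ∀ {B : Finset W} {J : Finset E},
      finrank K ↥(span K (↑(J.biUnion (Function.update A e B)) : Set W)) < J.card → e ∈ J := by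
    intro B J h
    by_contra he
    refine absurd (hA J) (not_le.2 ?_)
    rwa [Finset.biUnion_congr rfl fun j hj => Function.update_of_ne (ne_of_mem_of_not_mem hj he) B A] at h
  have heJ := mem hJ
  have heL := mem hL
  set SJ := span K (↑(J.biUnion (Function.update A e ((A e).erase x))) : Set W)
  set SL := span K (↑(L.biUnion (Function.update A e ((A e).erase y))) : Set W)
  have hun : span K (↑((J ∪ L).biUnion A) : Set W) ≤ SJ ⊔ SL := by
    refine span_le.2 fun z hz => ?_
    rw [Finset.mem_coe, Finset.mem_biUnion] at hz
    obtain ⟨j, hj, hzj⟩ := hz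
    by_cases hje : j = e
    · subst hje
      by_cases hzx : z = x
      · refine mem_sup_right (subset_span (Finset.mem_biUnion.2 ⟨j, heL, ?_⟩))
        rw [Function.update_self]
        exact Finset.mem_erase.2 ⟨hzx ▸ hxy, hzj⟩
      · refine mem_sup_left (subset_span (Finset.mem_biUnion.2 ⟨j, heJ, ?_⟩))
        rw [Function.update_self]
        exact Finset.mem_erase.2 ⟨hzx, hzj⟩
    · rcases Finset.mem_union.1 hj with hj | hj
      · exact mem_sup_left (subset_span (Finset.mem_biUnion.2 ⟨j, hj, by rwa [Function.update_of_ne hje]⟩))
      · exact mem_sup_right (subset_span (Finset.mem_biUnion.2 ⟨j, hj, by rwa [Function.update_of_ne hje]⟩))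
  have hin : span K (↑(((J ∩ L).erase e).biUnion A) : Set W) ≤ SJ ⊓ SL := by
    refine span_le.2 fun z hz => ?_
    rw [Finset.mem_coe, Finset.mem_biUnion] at hz
    obtain ⟨j, hj, hzj⟩ := hz
    rw [Finset.mem_erase, Finset.mem_inter] at hj
    exact ⟨subset_span (Finset.mem_biUnion.2 ⟨j, hj.2.1, by rwa [Function.update_of_ne hj.1]⟩),
      subset_span (Finset.mem_biUnion.2 ⟨j, hj.2.2, by rwa [Function.update_of_ne hj.1]⟩)⟩
  have h1 := (hA (J ∪ L)).trans (finrank_mono hun)
  have h2 := (hA ((J ∩ L).erase e)).trans (finrank_mono hin)
  rw [Finset.card_erase_of_mem (Finset.mem_inter.2 ⟨heJ, heL⟩)] at h2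
  have h3 := finrank_sup_add_finrank_inf_eq SJ SL
  have h4 := Finset.card_union_add_card_inter J L
  omega

theorem exists_transversal_aux : ∀ (N : ℕ) (A : E → Finset W), (∑ e, (A e).card) ≤ N → Cond K A →
    ∃ f : E → W, (∀ e, f e ∈ A e) ∧ LinearIndependent K f := by
  intro N
  induction N using Nat.strong_induction_on with
  | _ N ih =>
    intro A hN hA
    by_cases h : ∃ e, 1 < (A e).card
    · obtain ⟨e, he⟩ := h
      obtain ⟨x, hx, y, hy, hxy⟩ := Finset.one_lt_card.1 he
      have key : ∀ z ∈ A e, Cond K (Function.update A e ((A e).erase z)) →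
          ∃ f : E → W, (∀ e, f e ∈ A e) ∧ LinearIndependent K f := by
        intro z hz hc
        have hlt : (∑ j, (Function.update A e ((A e).erase z) j).card) < N := by
          refine lt_of_lt_of_le (Finset.sum_lt_sum (fun j _ => ?_) ⟨e, Finset.mem_univ e, ?_⟩) hN
          · by_cases hje : j = e
            · subst hje; rw [Function.update_self]; exact Finset.card_erase_le
            · rw [Function.update_of_ne hje]
          · rw [Function.update_self]; exact Finset.card_erase_lt_of_mem hz
        obtain ⟨f, hf, hli⟩ := ih _ hlt _ le_rfl hc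
        refine ⟨f, fun j => ?_, hli⟩
        have := hf j
        by_cases hje : j = e
        · subst hje; rw [Function.update_self] at this; exact Finset.mem_of_mem_erase this
        · rwa [Function.update_of_ne hje] at this
      exact (exists_shrink hA hx hy hxy).elim (key x hx) (key y hy)
    · simp only [not_exists, not_lt] at h
      have hne : ∀ e, (A e).Nonempty := fun e => by
        by_contra hc
        have := hA {e}
        rw [Finset.singleton_biUnion, Finset.not_nonempty_iff_eq_empty.1 hc, Finset.coe_empty, span_empty,
          finrank_bot, Finset.card_singleton] at this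
        omega
      choose f hf using hne
      refine ⟨f, hf, linearIndependent_iff_card_le_finrank_span.2 ?_⟩
      refine (hA Finset.univ).trans (finrank_mono (span_mono fun z hz => ?_))
      rw [Finset.mem_coe, Finset.mem_biUnion] at hz
      obtain ⟨j, -, hzj⟩ := hz
      exact ⟨j, Finset.card_le_one.1 (h j) _ (hf j) _ hzj⟩

/-- A family of vectors in which every subfamily has at most `p` times as many members as the
dimension of its span splits into `p` linearly independent subfamilies. -/
theorem exists_colouring {V : Type v} [AddCommGroup V] [Module K V] [FiniteDimensional K V] [DecidableEq V]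
    (p : ℕ) (x : E → V) (h : ∀ J : Finset E, J.card ≤ p * finrank K ↥(span K (x '' (↑J : Set E)))) :
    ∃ c : E → Fin p, ∀ q : Fin p, LinearIndependent K (fun e : {e // c e = q} => x e.1) := by
  let A : E → Finset (Fin p → V) := fun e =>
    Finset.univ.image fun q => LinearMap.single K (fun _ : Fin p => V) q (x e)
  have hA : Cond K A := by
    intro J
    refine (h J).trans ?_
    set S := span K (x '' (↑J : Set E))
    let L : (Fin p → S) →ₗ[K] (Fin p → V) := LinearMap.pi fun q => S.subtype.comp (LinearMap.proj q)
    have hL : Function.Injective L := fun a b hab => funext fun q => Subtype.ext (congrFun hab q)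
    have hle : LinearMap.range L ≤ span K (↑(J.biUnion A) : Set (Fin p → V)) := by
      rintro _ ⟨a, rfl⟩
      rw [← Finset.univ_sum_single (L a)]
      refine sum_mem fun q _ => ?_
      have hS : S.map (LinearMap.single K (fun _ : Fin p => V) q) ≤ span K (↑(J.biUnion A) : Set (Fin p → V)) := by
        rw [Submodule.map_span]
        refine span_mono ?_
        rintro _ ⟨_, ⟨e, he, rfl⟩, rfl⟩
        exact Finset.mem_biUnion.2 ⟨e, he, Finset.mem_image.2 ⟨q, Finset.mem_univ q, rfl⟩⟩
      exact hS (Submodule.mem_map_of_mem (a q).2)
    refine le_of_eq_of_le ?_ (finrank_mono hle)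
    rw [LinearMap.finrank_range_of_inj hL, Module.finrank_pi_fintype, Finset.sum_const, Finset.card_univ,
      Fintype.card_fin, smul_eq_mul]
  obtain ⟨f, hf, hli⟩ := exists_transversal_aux _ A le_rfl hA
  choose c hc using fun e => Finset.mem_image.1 (hf e)
  refine ⟨c, fun q => LinearIndependent.of_comp (LinearMap.single K (fun _ : Fin p => V) q) ?_⟩
  have e : f ∘ (Subtype.val : {e // c e = q} → E) =
      (LinearMap.single K (fun _ : Fin p => V) q) ∘ fun e : {e // c e = q} => x e.1 := funext fun e => by
    rw [Function.comp_apply, Function.comp_apply, ← (hc e.1).2, e.2]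
  exact e ▸ hli.comp (Subtype.val : {e // c e = q} → E) Subtype.val_injective

end Rado27
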